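import Cfsg.Agent.H24.HT.Bound
import Cfsg.Agent.Schreier.PSU
import Cfsg.Agent.H681.IP.Sec

/-!
# S4933: `three_lemma` (helper24)

`A` with `PSU_3(q) ≅ N ⊴ A`, `C_A(N) = 1`, `9 ∣ q + 1`, and a Sylow `3`-subgroup `P` with the degrees `1`, `3`: then
`|P : P ∩ N| ≤ 3` (in the form of the conclusion).
-/

set_option autoImplicit false

namespace Cfsg.Agent.H24.HT

open Cfsg Cfsg.Agent.LieClassical.HermBasic Cfsg.Agent.LieClassical.HermSiegel
  Cfsg.Agent.LieClassical.HermGen Cfsg.Agent.LieClassical.SUBasic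
  Cfsg.Agent.ClassicalGeometry.UnitAutBasic Cfsg.Agent.LieClassical.FieldTransfer
  Cfsg.Agent.ClassicalGeometry.PSUAutCount Matrix Cfsg.Agent.H740.Cyc

universe u v

section

variable {F : Type u} [Field F] [Fintype F] {q : ℕ}

/-- the action on a normal subgroup -/
noncomputable def actHom {A : Type v} [Group A] (N : Subgroup A) [N.Normal] (e : N ≃* PSU 3 F q) :
    A →* MulAut (PSU 3 F q) := (MulAut.congr e).toMonoidHom.comp MulAut.conjNormal

omit [Fintype F] in
theorem actHom_injective {A : Type v} [Group A] (N : Subgroup A) [N.Normal] (e : N ≃* PSU 3 F q)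
    (hC : Subgroup.centralizer (N : Set A) = ⊥) : Function.Injective (actHom N e) := by
  rw [injective_iff_map_eq_one]
  intro x hx
  have h1 : (MulAut.conjNormal x : MulAut N) = 1 := (MulAut.congr e).injective (hx.trans (map_one _).symm)
  have h2 : x ∈ Subgroup.centralizer (N : Set A) := by
    rw [Subgroup.mem_centralizer_iff]
    intro n hn
    have h3 := congrArg (fun α : MulAut N => ((α ⟨n, hn⟩ : N) : A)) h1
    simp only [MulAut.conjNormal_apply, MulAut.one_apply] at h3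
    exact (mul_inv_eq_iff_eq_mul.1 h3).symm
  rw [hC] at h2
  exact Subgroup.mem_bot.1 h2

omit [Fintype F] in
theorem actHom_coe {A : Type v} [Group A] (N : Subgroup A) [N.Normal] (e : N ≃* PSU 3 F q) (n : N) :
    actHom N e n = MulAut.conj (e n) := by
  ext y
  change e ((MulAut.conjNormal (n : A) : MulAut N) (e.symm y)) = e n * y * (e n)⁻¹
  have h1 : (MulAut.conjNormal (n : A) : MulAut N) (e.symm y) = n * e.symm y * n⁻¹ := by
    apply Subtype.ext
    rw [MulAut.conjNormal_apply]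
    rfl
  rw [h1, map_mul, map_mul, map_inv, MulEquiv.apply_symm_apply]

omit [Fintype F] in
theorem exists_conj_of_det (C : Cfsg.GU 3 F q) (hC : (gm C).det = 1) :
    ∃ g : PSU 3 F q, toAut C 1 = MulAut.conj g := by
  have hCS : (⟨gm C, hC⟩ : Matrix.SpecialLinearGroup (Fin 3) F) ∈ SU 3 F q :=
    (Cfsg.Agent.LieClassical.HermBasic.mem_SU_iff (⟨gm C, hC⟩ : Matrix.SpecialLinearGroup (Fin 3) F)).2
      fun u v => herm_gm C u v
  exact ⟨pr 3 F q ⟨_, hCS⟩, Schreier.PSU.f₁_eq_conj C ⟨_, hCS⟩ rfl⟩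

/-- automorphisms from matrices whose determinant is a cube of a norm one element -/
theorem exists_inner (hF : Fintype.card F = q ^ 2) (h3 : 3 ∣ q + 1) {A : Type v} [Group A] (N : Subgroup A) [N.Normal]
    (e : N ≃* PSU 3 F q) (B : Cfsg.GU 3 F q) (hB : (gm B).det ^ ((q + 1) / 3) = 1) :
    ∃ n ∈ N, actHom N e n = toAut B 1 := by
  obtain ⟨c, hc3, hc⟩ := exists_cube hF h3 hB
  have hc0 : c ≠ 0 := by
    rintro rfl
    rw [zero_pow (by omega)] at hc
    exact zero_ne_one hc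
  have hci : c⁻¹ * c⁻¹ ^ q = 1 := by
    rw [← pow_succ', inv_pow, hc, inv_one]
  have hdet : (gm (sc 3 ⟨c⁻¹, hci⟩ * B)).det = 1 := by
    rw [gm_sc_mul, Matrix.det_smul, Fintype.card_fin, ← hc3, inv_pow, inv_mul_cancel₀ (pow_ne_zero 3 hc0)]
  obtain ⟨g, hg⟩ := exists_conj_of_det _ hdet
  refine ⟨e.symm g, (e.symm g).2, ?_⟩
  rw [actHom_coe, MulEquiv.apply_symm_apply, ← hg, toAut_sc_mul]

end

/-- **`three_lemma`** -/
theorem three_lemma {F : Type} [Field F] [Fintype F] {q : ℕ} (hF : Fintype.card F = q ^ 2) (h9 : 9 ∣ q + 1) {A : Type}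
    [Group A] [Finite A] (N : Subgroup A) [N.Normal] (e : N ≃* PSU 3 F q)
    (hC : Subgroup.centralizer (N : Set A) = ⊥) (P : Sylow 3 A) (hTD : H681.IP.TD 3 1 (P : Subgroup A)) :
    ∀ y ∈ (P : Subgroup A), y ∉ N → ∀ z ∈ (P : Subgroup A), z ∈ N ∨ z * y ∈ N ∨ z * y⁻¹ ∈ N := by
  have hp3 : Fact (Nat.Prime 3) := ⟨Nat.prime_three⟩
  have h3 : 3 ∣ q + 1 := (by norm_num : 3 ∣ 9).trans h9
  have h32 : ¬ (3 = 3 ∧ q = 2) := by
    rintro ⟨-, rfl⟩
    norm_num at h9
  have hΦ := actHom_injective N e hC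
  have hin := exists_inner hF h3 N e
  -- no field automorphisms
  have hfld : ∀ x ∈ (P : Subgroup A), fld hF le_rfl h32 (actHom N e x) = 1 := by
    intro x hx
    by_contra hρ
    obtain ⟨B, hB⟩ := exists_of_fld hF le_rfl h32 (actHom N e x)
    obtain ⟨s, hs⟩ := P.isPGroup' ⟨x, hx⟩
    have hs' : x ^ 3 ^ s = 1 := congrArg (fun y : (P : Subgroup A) => (y : A)) hs
    obtain ⟨R, hR, θ, hθ⟩ := exists_deg hF h9 (actHom N e) hΦ
      (fun B hB => by
        obtain ⟨n, -, hn⟩ := hin B hB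
        exact ⟨n, hn⟩) hB hρ (s := s) (by rw [← map_pow, ← map_pow, hs', map_one, map_one])
    obtain ⟨P', hP'⟩ := IsPGroup.exists_le_sylow hR
    let f : R →* ↥(P : Subgroup A) :=
      ((P'.equiv P : (P' : Subgroup A) ≃* (P : Subgroup A)) : (P' : Subgroup A) →* (P : Subgroup A)).comp
        (Subgroup.inclusion hP')
    have hf : Function.Injective f := fun x y hxy =>
      Subgroup.inclusion_injective hP' ((P'.equiv P).injective hxy)
    have h4 := hTD.le Nat.prime_three f hf θ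
    omega
  -- the determinants
  obtain ⟨w, hw⟩ := h3
  have hw' : (q + 1) / 3 = w := by rw [hw, Nat.mul_div_cancel_left _ (by norm_num : 0 < 3)]
  have hmat : ∀ x ∈ (P : Subgroup A), ∃ B : Cfsg.GU 3 F q, actHom N e x = toAut B 1 := fun x hx =>
    exists_of_fld_eq_one hF le_rfl h32 (hfld x hx)
  have hdet : ∀ B : Cfsg.GU 3 F q, ((gm B).det ^ w) ^ 3 = 1 := by
    intro B
    rw [← pow_mul, mul_comm, ← hw]
    exact LieClassical.GUOrder.det_mul_frob_det hF _ B.2
  have hmem : ∀ (x : A) (B : Cfsg.GU 3 F q), actHom N e x = toAut B 1 → (gm B).det ^ w = 1 → x ∈ N := by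
    intro x B hx hB
    obtain ⟨n, hn, hn1⟩ := hin B (by rw [hw', hB])
    have h4 : x = n := hΦ (hx.trans hn1.symm)
    rw [h4]
    exact hn
  intro y hy hyN z hz
  obtain ⟨B, hB⟩ := hmat y hy
  obtain ⟨C, hC⟩ := hmat z hz
  have hB1 : (gm B).det ^ w ≠ 1 := fun h => hyN (hmem y B hB h)
  rcases eq_or_of_cube (hdet B) hB1 (hdet C) with h | h | h
  · exact Or.inl (hmem z C hC h)
  · refine Or.inr (Or.inr ?_)
    have h4 : actHom N e (z * y⁻¹) = toAut (C * B⁻¹) 1 := by
      have h5 : toAut (C * B⁻¹) 1 * toAut B 1 = toAut C 1 := by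
        rw [← toAut_mul_one hF, inv_mul_cancel_right]
      rw [map_mul, map_inv, hB, hC, ← h5, mul_inv_cancel_right]
    refine hmem _ _ h4 ?_
    have h6 : (gm B).det * (gm B⁻¹).det = 1 := by rw [← det_mul, gm_mul_inv, det_one]
    rw [gm_mul, det_mul, mul_pow, h, ← mul_pow, h6, one_pow]
  · refine Or.inr (Or.inl ?_)
    have h4 : actHom N e (z * y) = toAut (C * B) 1 := by
      rw [map_mul, hB, hC, toAut_mul_one hF]
    refine hmem _ _ h4 ?_
    rw [gm_mul, det_mul, mul_pow, h, ← pow_succ]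
    exact hdet B

end Cfsg.Agent.H24.HT
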