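import Mathlib
import Cfsg.Agent.H40.HT.Low

/-!
# S4933, three_lemma: a Clifford bound with a family of conjugates (helper24)

`exists_irr_of_fam` : if the linear character `lam` of the normal subgroup `A` has `|ι|` different conjugates then `H`
has an irreducible character of degree at least `|ι|`.
-/

set_option autoImplicit false

open scoped ComplexConjugate
open Cfsg

namespace Cfsg.Agent.H24.HT

open Cfsg.Agent.Characters Cfsg.Agent.Characters.Core Cfsg.Agent.Characters.Clifford Cfsg.Agent.H316.HT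
open Cfsg.Agent.H40.HT (cast_deg)

universe u v w

/-- **Clifford bound** -/
theorem exists_irr_of_fam {H : Type u} [Group H] [Finite H] (A : Subgroup H) [A.Normal]
    (lam : A →* ℂˣ) {ι : Type v} [Finite ι] (s : ι → H)
    (hs : ∀ i j, i ≠ j → ∃ y : A, lam (MulAut.conjNormal (s i) y) ≠ lam (MulAut.conjNormal (s j) y)) :
    ∃ θ : IrrCharacter H, Nat.card ι ≤ charDegree (θ : H → ℂ) := by
  classical
  have := Fintype.ofFinite H
  have := Fintype.ofFinite A
  have := Fintype.ofFinite ι
  have hf : Finite (IrrCharacter H) := finite_irr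
  have : Fintype (IrrCharacter H) := Fintype.ofFinite _
  have hf' : Finite (IrrCharacter A) := finite_irr
  have : Fintype (IrrCharacter A) := Fintype.ofFinite _
  let L : A → ℂ := fun y => ((lam y : ℂˣ) : ℂ)
  have hL : IsIrrCharacter A L := Linear.isIrrCharacter_hom lam
  obtain ⟨m, hm⟩ := exists_nat_comb (Brauer.isCharacter_indFun A (isIrr_isCharacter hL))
  have hne : ∃ θ : IrrCharacter H, m θ ≠ 0 := by
    by_contra hc
    push Not at hc
    have h1 := congrFun hm 1
    simp only [hc, zero_smul, Finset.sum_const_zero, Pi.zero_apply] at h1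
    rw [OddOrderCharacters.IndRes.indFun_apply_one] at h1
    have h2 : L 1 = 1 := by simp [L]
    rw [h2, mul_one] at h1
    exact Subgroup.index_ne_zero_of_finite (H := A) (by exact_mod_cast h1)
  obtain ⟨θ, hθ⟩ := hne
  refine ⟨θ, ?_⟩
  have h0 : classInner (fun y : A => (θ : H → ℂ) y) L ≠ 0 := by
    have h1 := Cfsg.Agent.OddOrderCharacters.Clifford.classInner_indFun A L (θ : H → ℂ)
      (isIrr_isClassFunction θ.2)
    rw [hm, classInner_sum_nsmul_irr] at h1
    have h2 := classInner_conj_symm L (fun y : A => (θ : H → ℂ) y)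
    rw [← h1, map_natCast] at h2
    rw [← h2]
    exact_mod_cast hθ
  have hconj : ∀ x : H, IsIrrCharacter A (L ∘ (MulAut.conjNormal x : MulAut A)) := fun x => isIrr_conjNormal hL x
  let F : ι → IrrCharacter A := fun i => ⟨L ∘ (MulAut.conjNormal (s i) : MulAut A), hconj (s i)⟩
  have hinj : Function.Injective F := by
    intro i j hij
    by_contra hne
    obtain ⟨y, hy⟩ := hs i j hne
    apply hy
    have h3 : L (MulAut.conjNormal (s i) y) = L (MulAut.conjNormal (s j) y) :=
      congrFun (congrArg (fun χ : IrrCharacter A => (χ : A → ℂ)) hij) y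
    exact Units.ext h3
  obtain ⟨c, hc⟩ := exists_nat_comb (isCharacter_restrict A (isIrr_isCharacter θ.2))
  have hcF : ∀ i : ι, 1 ≤ c (F i) := by
    intro x
    have h2 : classInner (fun y : A => (θ : H → ℂ) y) (F x : A → ℂ) = (c (F x) : ℂ) := by
      rw [hc, classInner_sum_nsmul_irr]
    have h3 : classInner (fun y : A => (θ : H → ℂ) y) (F x : A → ℂ) ≠ 0 := by
      change classInner (fun y : A => (θ : H → ℂ) y) (L ∘ (MulAut.conjNormal (s x) : MulAut A)) ≠ 0
      rw [classInner_restrict_conjNormal (isIrr_isClassFunction θ.2)]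
      exact h0
    rw [h2] at h3
    exact Nat.one_le_iff_ne_zero.2 (by exact_mod_cast h3)
  have hdeg : charDegree (θ : H → ℂ) = ∑ ψ : IrrCharacter A, c ψ * charDegree (ψ : A → ℂ) := by
    have h3 := congrFun hc 1
    rw [Finset.sum_apply] at h3
    have h4 : ((charDegree (θ : H → ℂ) : ℕ) : ℂ) = ∑ ψ : IrrCharacter A, ((c ψ * charDegree (ψ : A → ℂ) : ℕ) : ℂ) := by
      rw [← cast_deg]
      refine h3.trans (Finset.sum_congr rfl fun ψ _ => ?_)
      rw [Pi.smul_apply, nsmul_eq_mul, cast_deg, Nat.cast_mul]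
    exact_mod_cast h4
  rw [hdeg]
  have hFX : Nat.card ι = ∑ _x : ι, 1 := by simp
  rw [hFX, ← Finset.sum_image (f := fun _ : IrrCharacter A => 1) (s := Finset.univ) (g := F) fun _ _ _ _ h => hinj h]
  refine (Finset.sum_le_sum fun ψ hψ => ?_).trans (Finset.sum_le_sum_of_subset (Finset.subset_univ _))
  obtain ⟨x, -, rfl⟩ := Finset.mem_image.1 hψ
  have h5 : charDegree (F x : A → ℂ) = 1 := by
    have h6 : (F x : A → ℂ) 1 = 1 := by
      change L (MulAut.conjNormal (s x) 1) = 1
      rw [map_one]
      simp [L]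
    rw [cast_deg] at h6
    exact_mod_cast h6
  rw [h5, mul_one]
  exact hcF x

/-- a finite cyclic group embeds in `ℂˣ` -/
theorem exists_inj_hom (G : Type u) [Group G] [Finite G] [IsCyclic G] : ∃ χ : G →* ℂˣ, Function.Injective χ := by
  have hN : NeZero (Nat.card G) := ⟨Nat.card_pos.ne'⟩
  have h1 : Nat.card G = Nat.card (rootsOfUnity (Nat.card G) ℂ) := by
    rw [Complex.card_rootsOfUnity]
  let e : G ≃* rootsOfUnity (Nat.card G) ℂ := mulEquivOfCyclicCardEq h1
  refine ⟨(rootsOfUnity (Nat.card G) ℂ).subtype.comp (e : G →* _), fun x y h => ?_⟩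
  have h2 : ((e x : rootsOfUnity (Nat.card G) ℂ) : ℂˣ) = (e y : rootsOfUnity (Nat.card G) ℂ) := h
  exact e.injective (Subtype.ext h2)

end Cfsg.Agent.H24.HT
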