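import Cfsg.Agent.H24.HT.Mono
import Cfsg.Agent.H24.HT.Arith
import Cfsg.Agent.H24.HT.Cliff

/-!
# S4933, three_lemma: a character of degree at least four (helper24)

`exists_deg` : a group acting faithfully on `PSU_3(q)`, `9 ∣ q + 1`, inducing `PSU_3(q)` and a field automorphism of
order divisible by `3`, has a `3`-subgroup with an irreducible character of degree at least `4`.
-/

set_option autoImplicit false

namespace Cfsg.Agent.H24.HT

open Cfsg Cfsg.Agent.LieClassical.HermBasic Cfsg.Agent.LieClassical.HermSiegel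
  Cfsg.Agent.LieClassical.HermGen Cfsg.Agent.LieClassical.SUBasic
  Cfsg.Agent.ClassicalGeometry.UnitAutBasic Cfsg.Agent.LieClassical.FieldTransfer
  Cfsg.Agent.ClassicalGeometry.PSUAutCount Matrix Cfsg.Agent.H740.Cyc

universe u v

variable {F : Type u} [Field F] [Fintype F] {q : ℕ}

/-- the automorphisms `tm k d τ`, `d i ^ m = 1`, `τ ∈ ⟨ρ⟩` -/
def Gam (hF : Fintype.card F = q ^ 2) (m : ℕ) (ρ : F ≃+* F) : Submonoid (MulAut (PSU 3 F q)) where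
  carrier := {α | ∃ (k : Fin 3) (d : Fin 3 → U F q) (τ : F ≃+* F), (∀ i, d i ^ m = 1) ∧ τ ∈ Subgroup.zpowers ρ ∧
    α = tm hF k d τ}
  one_mem' := ⟨0, 1, 1, fun _ => one_pow _, Subgroup.one_mem _, (tm_one hF).symm⟩
  mul_mem' := by
    rintro _ _ ⟨k, d, τ, h1, h2, rfl⟩ ⟨l, e, σ, h3, h4, rfl⟩
    refine ⟨k + l, _, τ * σ, fun i => ?_, Subgroup.mul_mem _ h2 h4, tm_mul hF k l d e τ σ⟩
    rw [mul_pow, h1, ← map_pow, h3, map_one, mul_one]

/-- in finite groups submonoids are subgroups -/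
def subOf {A : Type v} [Group A] [Finite A] (M : Submonoid A) : Subgroup A :=
  { M with
    inv_mem' := fun {x} hx => by
      have h1 : x⁻¹ ∈ Submonoid.powers x :=
        mem_powers_iff_mem_zpowers.2 (Subgroup.inv_mem _ (Subgroup.mem_zpowers x))
      exact (Submonoid.powers_le.2 hx) h1 }

theorem mem_subOf {A : Type v} [Group A] [Finite A] {M : Submonoid A} {x : A} : x ∈ subOf M ↔ x ∈ M := Iff.rfl

theorem tm_pow_one (hF : Fintype.card F = q ^ 2) (e : Fin 3 → U F q) (j : ℕ) :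
    tm hF 0 e 1 ^ j = tm hF 0 (e ^ j) 1 := (map_pow (dg hF) e j).symm

theorem Gam_pow (hF : Fintype.card F = q ^ 2) (h32 : ¬ (3 = 3 ∧ q = 2)) {s b : ℕ} {ρ : F ≃+* F} (hs : ρ ^ 3 ^ s = 1)
    {α : MulAut (PSU 3 F q)} (hα : α ∈ Gam hF (3 ^ b) ρ) : α ^ 3 ^ (s + 1 + b) = 1 := by
  have h0 := (Gam hF (3 ^ b) ρ).pow_mem hα (3 ^ s)
  obtain ⟨l, e, σ, h4, h5, h6⟩ := h0
  obtain ⟨k, d, τ, h1, h2, rfl⟩ := hα
  have hσ : σ = 1 := by
    have h7 := congrArg (fld hF le_rfl h32) h6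
    rw [map_pow] at h7
    unfold tm at h7
    rw [fld_toAut, fld_toAut] at h7
    rw [← h7]
    obtain ⟨z, rfl⟩ := Subgroup.mem_zpowers_iff.1 h2
    rw [← zpow_natCast, ← _root_.zpow_mul, mul_comm, _root_.zpow_mul, zpow_natCast, hs, _root_.one_zpow]
  subst hσ
  have h8 : tm hF l e 1 ^ 3 = tm hF 0 (fun i => e i * e (i + l) * e (i + (l + l))) 1 := by
    rw [pow_succ, pow_two, tm_mul, tm_mul, mul_one, mul_one]
    have hl : ∀ l : Fin 3, l + l + l = 0 := by decide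
    rw [hl l]
    rfl
  rw [pow_add, pow_add, pow_mul, pow_mul, h6, pow_one, h8, tm_pow_one]
  have h9 : (fun i => e i * e (i + l) * e (i + (l + l))) ^ 3 ^ b = (1 : Fin 3 → U F q) := by
    funext i
    rw [Pi.pow_apply, mul_pow, mul_pow, h4, h4, h4, one_mul, one_mul, Pi.one_apply]
  rw [h9, tm_one]

/-- **changing an element by an inner automorphism** -/
theorem exists_good (hF : Fintype.card F = q ^ 2) (h3 : 3 ∣ q + 1) {A : Type v} [Group A]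
    (Φ : A →* MulAut (PSU 3 F q))
    (hin : ∀ B : Cfsg.GU 3 F q, (gm B).det ^ ((q + 1) / 3) = 1 → ∃ n : A, Φ n = toAut B 1)
    {x : A} {B : Cfsg.GU 3 F q} {ρ : F ≃+* F} (hx : Φ x = toAut B ρ) {ζ : U F q} {m : ℕ} (hζ : ζ ^ m = 1)
    (hζ1 : ((ζ : Fˣ) : F) ^ ((q + 1) / 3) ≠ 1) :
    ∃ (x' : A) (d : Fin 3 → U F q), (∀ i, d i ^ m = 1) ∧ Φ x' = tm hF 0 d ρ := by
  obtain ⟨w, hw⟩ := h3
  have hw' : (q + 1) / 3 = w := by rw [hw, Nat.mul_div_cancel_left _ (by norm_num : 0 < 3)]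
  rw [hw'] at hζ1 hin
  have h1 : (((ζ : Fˣ) : F) ^ w) ^ 3 = 1 := by
    rw [← pow_mul, mul_comm, ← hw, U_pow]
  have hdet : (gm B).det ^ (q + 1) = 1 := LieClassical.GUOrder.det_mul_frob_det hF _ B.2
  have h2 : ((gm B).det ^ w) ^ 3 = 1 := by
    rw [← pow_mul, mul_comm, ← hw, hdet]
  have hj : ∃ j : ℕ, (gm B).det ^ w = (((ζ : Fˣ) : F) ^ w) ^ j := by
    rcases eq_or_of_cube h1 hζ1 h2 with h | h | h
    · exact ⟨0, by rw [h, pow_zero]⟩
    · exact ⟨1, by rw [h, pow_one]⟩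
    · exact ⟨2, h⟩
  obtain ⟨j, hj⟩ := hj
  let d : Fin 3 → U F q := ![ζ ^ j, 1, 1]
  have hd : ∀ i, d i ^ m = 1 := by
    intro i
    fin_cases i
    · change (ζ ^ j) ^ m = 1
      rw [← pow_mul, mul_comm, pow_mul, hζ, one_pow]
    · exact one_pow m
    · exact one_pow m
  have hdd : (gm (mn hF 0 d)).det = ((ζ : Fˣ) : F) ^ j := by
    rw [gm_mn, det_mon_zero]
    change (((ζ ^ j : U F q) : Fˣ) : F) * 1 * 1 = _
    rw [mul_one, mul_one]
    rfl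
  have hBB : (gm B).det * (gm B⁻¹).det = 1 := by
    rw [← det_mul, gm_mul_inv, det_one]
  have hC : (gm (mn hF 0 d * B⁻¹)).det ^ w = 1 := by
    rw [gm_mul, det_mul, hdd, mul_pow, ← pow_mul, mul_comm j w, pow_mul, ← hj, ← mul_pow, hBB, one_pow]
  obtain ⟨n, hn⟩ := hin _ hC
  refine ⟨n * x, d, hd, ?_⟩
  obtain ⟨D, hD1, hD2⟩ := exists_comp hF (mn hF 0 d * B⁻¹) B 1 ρ
  rw [map_mul, hn, hx, ← hD2, one_mul]
  unfold tm
  congr 1
  apply gm_inj
  have h4 : (gm B).map (1 : F ≃+* F) = gm B := rfl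
  rw [hD1, h4, ← gm_mul, inv_mul_cancel_right]

/-- **a character of degree at least four** -/
theorem exists_deg (hF : Fintype.card F = q ^ 2) (h9 : 9 ∣ q + 1) {A : Type v} [Group A] [Finite A]
    (Φ : A →* MulAut (PSU 3 F q)) (hΦ : Function.Injective Φ)
    (hin : ∀ B : Cfsg.GU 3 F q, (gm B).det ^ ((q + 1) / 3) = 1 → ∃ n : A, Φ n = toAut B 1)
    {x : A} {B : Cfsg.GU 3 F q} {ρ : F ≃+* F} (hx : Φ x = toAut B ρ) (hρ : ρ ≠ 1) {s : ℕ} (hs : ρ ^ 3 ^ s = 1) :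
    ∃ R : Subgroup A, IsPGroup 3 R ∧ ∃ θ : Cfsg.IrrCharacter R, 4 ≤ charDegree (θ : R → ℂ) := by
  classical
  have h3 : 3 ∣ q + 1 := (by norm_num : 3 ∣ 9).trans h9
  have h32 : ¬ (3 = 3 ∧ q = 2) := by
    rintro ⟨-, rfl⟩
    norm_num at h9
  obtain ⟨b, w, hw3, hw⟩ := Nat.exists_eq_pow_mul_and_not_dvd (n := q + 1) (by omega) 3 (by norm_num)
  have hb : 3 ^ b ∣ q + 1 := ⟨w, hw⟩
  have hb' : ¬ 3 ^ (b + 1) ∣ q + 1 := by
    rw [hw, pow_succ]
    intro h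
    exact hw3 (Nat.dvd_of_mul_dvd_mul_left (by positivity) h)
  have hb2 : 2 ≤ b := by
    by_contra hlt
    push Not at hlt
    exact hb' ((pow_dvd_pow 3 (by omega : b + 1 ≤ 2)).trans h9)
  obtain ⟨ζ0, hζ0⟩ := exists_orderOf hF hb
  have hζm : ζ0 ^ 3 ^ b = 1 := by rw [← hζ0, pow_orderOf_eq_one]
  have hζq : ζ0 ^ (q + 1) = 1 := by rw [hw, pow_mul, hζm, one_pow]
  have hζ00 : ζ0 ≠ 0 := by
    rintro rfl
    rw [zero_pow (by omega)] at hζq
    exact zero_ne_one hζq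
  let ζ : U F q := ⟨Units.mk0 ζ0 hζ00, by
    rw [mem_rootsOfUnity]
    exact Units.ext (by rw [Units.val_pow_eq_pow_val, Units.val_mk0, hζq, Units.val_one])⟩
  have hζc : ((ζ : Fˣ) : F) = ζ0 := rfl
  have hζp : ζ ^ 3 ^ b = 1 := U_ext hζm
  have hζ3 : ζ ^ 3 ≠ 1 := by
    intro h
    have h1 : ζ0 ^ 3 = 1 := congrArg (fun y : U F q => ((y : Fˣ) : F)) h
    have h2 := orderOf_dvd_of_pow_eq_one h1
    rw [hζ0] at h2
    have h4 := (pow_dvd_pow 3 hb2).trans h2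
    norm_num at h4
  have hζρ : tu ρ ζ ≠ ζ := by
    intro h
    exact apply_ne hF (by omega) hb hb' hρ hs hζ0 (congrArg (fun y : U F q => ((y : Fˣ) : F)) h)
  have hζκ : ((ζ : Fˣ) : F) ^ ((q + 1) / 3) ≠ 1 := by
    intro h
    have h2 := orderOf_dvd_of_pow_eq_one h
    rw [hζc, hζ0] at h2
    apply hb'
    rw [pow_succ]
    obtain ⟨v, hv⟩ := h3
    rw [hv, Nat.mul_div_cancel_left _ (by norm_num : 0 < 3)] at h2
    rw [hv, mul_comm 3 v]
    exact Nat.mul_dvd_mul_right h2 3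
  obtain ⟨x', d, hd, hx'⟩ := exists_good hF h3 Φ hin hx hζp hζκ
  -- the group
  let R : Subgroup A := subOf ((Gam hF (3 ^ b) ρ).comap Φ)
  have hR : ∀ r : A, r ∈ R ↔ Φ r ∈ Gam hF (3 ^ b) ρ := fun r => Iff.rfl
  refine ⟨R, ?_, ?_⟩
  · rintro ⟨r, hr⟩
    refine ⟨s + 1 + b, Subtype.ext (hΦ ?_)⟩
    rw [Subgroup.coe_pow, map_pow, Subgroup.coe_one, map_one]
    exact Gam_pow hF h32 hs ((hR r).1 hr)
  -- the normal subgroup
  let Ψ : R →* MulAut (PSU 3 F q) := Φ.comp R.subtype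
  let V : Subgroup R := (dg hF).range.comap Ψ
  have hV : ∀ r : R, r ∈ V ↔ ∃ e, dg hF e = Φ r := fun r => Iff.rfl
  have hVn : V.Normal := by
    constructor
    intro r hr t
    obtain ⟨e, he⟩ := (hV r).1 hr
    obtain ⟨k, f, τ, -, -, hk⟩ := (hR t).1 t.2
    rw [hV]
    refine ⟨fun i => tu τ (e (i + k)), ?_⟩
    rw [Subgroup.coe_mul, Subgroup.coe_mul, Subgroup.coe_inv, map_mul, map_mul, map_inv, hk, ← he, dg_apply, dg_apply,
      tm_conj]
  -- the linear character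
  have hch : ∀ r : V, ∃ e, dg hF e = Φ (r : R) := fun r => r.2
  choose E hE using hch
  have hrat : ∀ (r : V) (e : Fin 3 → U F q), dg hF e = Φ (r : R) → E r 0 / E r 1 = e 0 / e 1 := fun r e he =>
    div_eq_of_dg hF ((hE r).trans he.symm)
  obtain ⟨χ, hχ⟩ := exists_inj_hom (U F q)
  let lam : V →* ℂˣ := χ.comp (MonoidHom.mk' (fun r : V => E r 0 / E r 1) (by
    intro r t
    rw [hrat (r * t) (E r * E t) (by
      rw [map_mul, hE, hE, Subgroup.coe_mul, Subgroup.coe_mul, map_mul]), Pi.mul_apply, Pi.mul_apply, mul_div_mul_comm]))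
  have hlam : ∀ r : V, lam r = χ (E r 0 / E r 1) := fun r => rfl
  have hconj : ∀ (t : R) (k : Fin 3) (f : Fin 3 → U F q) (τ : F ≃+* F), Φ t = tm hF k f τ → ∀ (r : V)
      (e : Fin 3 → U F q), dg hF e = Φ (r : R) → lam (MulAut.conjNormal t r) = χ (tu τ (e k / e (1 + k))) := by
    intro t k f τ ht r e he
    rw [hlam, hrat _ (fun i => tu τ (e (i + k))) (by
      rw [MulAut.conjNormal_apply, Subgroup.coe_mul, Subgroup.coe_mul, Subgroup.coe_inv, map_mul, map_mul, map_inv, ht,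
        ← he, dg_apply, dg_apply, tm_conj]), zero_add, map_div (tu τ)]
  -- the elements
  have hone : ∀ k : Fin 3, ∃ n : A, Φ n = tm hF k 1 1 := by
    intro k
    refine hin (mn hF k 1) ?_
    rw [gm_mn]
    have h4 : (mon k fun i => (((1 : Fin 3 → U F q) i : Fˣ) : F)).det = 1 := det_mon_one k
    rw [h4, one_pow]
  have hdia : ∀ e : Fin 3 → U F q, e 0 * e 1 * e 2 = 1 → ∃ n : A, dg hF e = Φ n := by
    intro e he
    obtain ⟨n, hn⟩ := hin (mn hF 0 e) (by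
      rw [gm_mn, det_mon_zero]
      have h4 : ((e 0 : Fˣ) : F) * ((e 1 : Fˣ) : F) * ((e 2 : Fˣ) : F) = 1 :=
        congrArg (fun y : U F q => ((y : Fˣ) : F)) he
      rw [h4, one_pow])
    exact ⟨n, hn.symm⟩
  choose n hn using hone
  have hnR : ∀ k, n k ∈ R := fun k => (hR _).2 ⟨k, 1, 1, fun _ => one_pow _, Subgroup.one_mem _, hn k⟩
  have hx'R : x' ∈ R := (hR _).2 ⟨0, d, ρ, hd, Subgroup.mem_zpowers ρ, hx'⟩
  have hdV : ∀ e : Fin 3 → U F q, e 0 * e 1 * e 2 = 1 → (∀ i, e i ^ 3 ^ b = 1) → ∃ r : V, dg hF e = Φ (r : R) := by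
    intro e he he1
    obtain ⟨n, hn⟩ := hdia e he
    exact ⟨⟨⟨n, (hR n).2 ⟨0, e, 1, he1, Subgroup.one_mem _, hn.symm⟩⟩, (hV _).2 ⟨e, hn⟩⟩, hn⟩
  have hζi : (ζ⁻¹) ^ 3 ^ b = 1 := by rw [inv_pow, hζp, inv_one]
  obtain ⟨r1, hr1⟩ := hdV ![ζ, ζ⁻¹, 1] (by simp) (by intro i; fin_cases i <;> simp [hζp])
  obtain ⟨r2, hr2⟩ := hdV ![ζ, 1, ζ⁻¹] (by simp) (by intro i; fin_cases i <;> simp [hζp])
  obtain ⟨r3, hr3⟩ := hdV ![1, ζ, ζ⁻¹] (by simp) (by intro i; fin_cases i <;> simp [hζp])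
  let S : Fin 4 → R := ![⟨n 0, hnR 0⟩, ⟨n 1, hnR 1⟩, ⟨n 2, hnR 2⟩, ⟨x', hx'R⟩]
  have hS0 : ∀ (r : V) (e : Fin 3 → U F q), dg hF e = Φ (r : R) → lam (MulAut.conjNormal (S 0) r) =
      χ (e 0 / e 1) := fun r e he => by
    rw [hconj (S 0) 0 1 1 (hn 0) r e he, tu_one]
    rfl
  have hS1 : ∀ (r : V) (e : Fin 3 → U F q), dg hF e = Φ (r : R) → lam (MulAut.conjNormal (S 1) r) =
      χ (e 1 / e 2) := fun r e he => by
    rw [hconj (S 1) 1 1 1 (hn 1) r e he, tu_one]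
    rfl
  have hS2 : ∀ (r : V) (e : Fin 3 → U F q), dg hF e = Φ (r : R) → lam (MulAut.conjNormal (S 2) r) =
      χ (e 2 / e 0) := fun r e he => by
    rw [hconj (S 2) 2 1 1 (hn 2) r e he, tu_one]
    rfl
  have hS3 : ∀ (r : V) (e : Fin 3 → U F q), dg hF e = Φ (r : R) → lam (MulAut.conjNormal (S 3) r) =
      χ (tu ρ (e 0 / e 1)) := fun r e he => by
    rw [hconj (S 3) 0 d ρ hx' r e he]
    rfl
  have key : ∀ i j : Fin 4, i < j → ∃ r : V, lam (MulAut.conjNormal (S i) r) ≠ lam (MulAut.conjNormal (S j) r) := by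
    have k01 : ∃ r : V, lam (MulAut.conjNormal (S 0) r) ≠ lam (MulAut.conjNormal (S 1) r) := by
      refine ⟨r1, fun h => hζ3 ?_⟩
      rw [hS0 _ _ hr1, hS1 _ _ hr1] at h
      have h5 : ζ / ζ⁻¹ = ζ⁻¹ / 1 := hχ h
      rw [div_inv_eq_mul, div_one, eq_inv_iff_mul_eq_one] at h5
      rw [pow_succ, pow_two, h5]
    have k02 : ∃ r : V, lam (MulAut.conjNormal (S 0) r) ≠ lam (MulAut.conjNormal (S 2) r) := by
      refine ⟨r1, fun h => hζ3 ?_⟩
      rw [hS0 _ _ hr1, hS2 _ _ hr1] at h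
      have h5 : ζ / ζ⁻¹ = 1 / ζ := hχ h
      rw [div_inv_eq_mul, one_div, eq_inv_iff_mul_eq_one] at h5
      rw [pow_succ, pow_two, h5]
    have k12 : ∃ r : V, lam (MulAut.conjNormal (S 1) r) ≠ lam (MulAut.conjNormal (S 2) r) := by
      refine ⟨r2, fun h => hζ3 ?_⟩
      rw [hS1 _ _ hr2, hS2 _ _ hr2] at h
      have h5 : 1 / ζ⁻¹ = ζ⁻¹ / ζ := hχ h
      rw [one_div, inv_inv, eq_div_iff_mul_eq', eq_inv_iff_mul_eq_one] at h5
      rw [pow_succ, pow_two, h5]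
    have k03 : ∃ r : V, lam (MulAut.conjNormal (S 0) r) ≠ lam (MulAut.conjNormal (S 3) r) := by
      refine ⟨r2, fun h => hζρ ?_⟩
      rw [hS0 _ _ hr2, hS3 _ _ hr2] at h
      have h5 : ζ / 1 = tu ρ (ζ / 1) := hχ h
      rw [div_one] at h5
      exact h5.symm
    have k13 : ∃ r : V, lam (MulAut.conjNormal (S 1) r) ≠ lam (MulAut.conjNormal (S 3) r) := by
      refine ⟨r2, fun h => hζρ ?_⟩
      rw [hS1 _ _ hr2, hS3 _ _ hr2] at h
      have h5 : 1 / ζ⁻¹ = tu ρ (ζ / 1) := hχ h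
      rw [div_one, one_div, inv_inv] at h5
      exact h5.symm
    have k23 : ∃ r : V, lam (MulAut.conjNormal (S 2) r) ≠ lam (MulAut.conjNormal (S 3) r) := by
      refine ⟨r3, fun h => hζρ ?_⟩
      rw [hS2 _ _ hr3, hS3 _ _ hr3] at h
      have h5 : ζ⁻¹ / 1 = tu ρ (1 / ζ) := hχ h
      rw [div_one, one_div, map_inv, _root_.inv_inj] at h5
      exact h5.symm
    intro i j hij
    fin_cases i <;> fin_cases j <;> first | exact absurd hij (by decide) | assumption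
  obtain ⟨θ, hθ⟩ := exists_irr_of_fam V lam S (by
    intro i j hij
    rcases lt_or_gt_of_ne hij with h | h
    · exact key i j h
    · obtain ⟨r, hr⟩ := key j i h
      exact ⟨r, hr.symm⟩)
  rw [Nat.card_fin] at hθ
  exact ⟨θ, hθ⟩

end Cfsg.Agent.H24.HT
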